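import Mathlib
import Cfsg.Agent.S3975

/-!
# Kulakoff / P. Hall counting: definitions (helper87, rows S4237 S4157)
-/

set_option autoImplicit false

namespace Cfsg.Agent.Lib.Helper87.Kul

/-- number of subgroups of order `n` -/
noncomputable def sN (G : Type*) [Group G] (n : ℕ) : ℕ :=
  Nat.card {H : Subgroup G // Nat.card H = n}

/-- number of noncyclic subgroups of order `n` -/
noncomputable def ncN (G : Type*) [Group G] (n : ℕ) : ℕ :=
  Nat.card {H : Subgroup G // Nat.card H = n ∧ ¬ IsCyclic H}

/-- number of cyclic subgroups of order `n` -/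
noncomputable def cN (G : Type*) [Group G] (n : ℕ) : ℕ :=
  Nat.card {H : Subgroup G // Nat.card H = n ∧ IsCyclic H}

/-- number of subgroups of order `n` contained in `T` -/
noncomputable def mu {G : Type*} [Group G] (n : ℕ) (T : Subgroup G) : ℕ :=
  Nat.card {S : Subgroup G // Nat.card S = n ∧ S ≤ T}

/-- number of pairs `S ≤ T` with `|S| = n`, `|T| = n'` -/
noncomputable def pairsN (G : Type*) [Group G] (n n' : ℕ) : ℕ :=
  Nat.card {x : Subgroup G × Subgroup G // Nat.card x.1 = n ∧ Nat.card x.2 = n' ∧ x.1 ≤ x.2}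

end Cfsg.Agent.Lib.Helper87.Kul
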