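import Mathlib
import Cfsg.Agent.Lib.Helper87.Kul.Defs

set_option autoImplicit false

namespace Cfsg.Agent.Lib.Helper87.Kul

/-- [CY] elements of order `n` versus cyclic subgroups of order `n`. -/
theorem card_orderOf_eq {G : Type*} [Group G] [Finite G] (n : ℕ) (hn : 0 < n) :
    Nat.card {g : G // orderOf g = n} = cN G n * Nat.totient n := by
  classical
  have := Fintype.ofFinite G
  let f : {g : G // orderOf g = n} → {H : Subgroup G // Nat.card H = n ∧ IsCyclic H} :=
    fun g => ⟨Subgroup.zpowers g.1, by rw [Nat.card_zpowers, g.2], inferInstance⟩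
  have hfib : ∀ H : {H : Subgroup G // Nat.card H = n ∧ IsCyclic H},
      Nat.card {x : {g : G // orderOf g = n} // f x = H} = Nat.totient n := by
    rintro ⟨H, hH, hc⟩
    have e : {x : {g : G // orderOf g = n} // f x = ⟨H, hH, hc⟩} ≃ {h : ↥H // orderOf h = n} :=
      { toFun := fun x => ⟨⟨x.1.1, by
            have h1 : Subgroup.zpowers x.1.1 = H := congrArg Subtype.val x.2
            have h2 : x.1.1 ∈ Subgroup.zpowers x.1.1 := Subgroup.mem_zpowers x.1.1
            rwa [h1] at h2⟩, by
            rw [Subgroup.orderOf_mk]; exact x.1.2⟩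
        invFun := fun h => ⟨⟨h.1.1, by rw [Subgroup.orderOf_coe]; exact h.2⟩, by
            apply Subtype.ext
            simp only [f]
            apply Subgroup.eq_of_le_of_card_ge
            · rw [Subgroup.zpowers_le]; exact h.1.2
            · rw [Nat.card_zpowers, Subgroup.orderOf_coe, h.2, hH]⟩
        left_inv := fun x => rfl
        right_inv := fun h => rfl }
    rw [Nat.card_congr e]
    have := IsCyclic.card_orderOf_eq_totient (α := ↥H) (d := n) (by rw [← Nat.card_eq_fintype_card, hH])
    rw [← this, Nat.card_eq_fintype_card, Fintype.card_subtype]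
  rw [← Nat.card_congr (Equiv.sigmaFiberEquiv f), Nat.card_sigma]
  simp only [hfib]
  rw [Finset.sum_const, Finset.card_univ, smul_eq_mul, cN, Nat.card_eq_fintype_card]

end Cfsg.Agent.Lib.Helper87.Kul
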