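import Mathlib
import Cfsg.Agent.S3975
import Cfsg.Agent.Lib.Helper87.Kul.Defs

set_option autoImplicit false

namespace Cfsg.Agent.Lib.Helper87.Kul

/-- [E1] -/
theorem mu_cyclic {G : Type*} [Group G] [Finite G] (p a : ℕ) (hp : p.Prime) (T : Subgroup G)
    (hT : Nat.card T = p ^ (a + 1)) (hc : IsCyclic T) : mu (p ^ a) T = 1 := by
  unfold mu
  rw [Nat.card_eq_one_iff_unique]
  constructor
  · constructor
    rintro ⟨S, hS, hST⟩ ⟨S', hS', hST'⟩
    apply Subtype.ext
    have h1 : Nat.card (S.subgroupOf T) = p ^ a := by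
      rw [Nat.card_congr (Subgroup.subgroupOfEquivOfLe hST).toEquiv, hS]
    have h2 : Nat.card (S'.subgroupOf T) = p ^ a := by
      rw [Nat.card_congr (Subgroup.subgroupOfEquivOfLe hST').toEquiv, hS']
    have h3 := Cfsg.Agent.S3975.eq_of_card_eq_of_isCyclic (pow_pos hp.pos _) h1 h2
    rw [Subgroup.subgroupOf_inj, inf_eq_left.mpr hST, inf_eq_left.mpr hST'] at h3
    exact h3
  · have : Fact p.Prime := ⟨hp⟩
    obtain ⟨S, hS⟩ := Sylow.exists_subgroup_card_pow_prime (G := ↥T) p (n := a)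
      (by rw [hT]; exact pow_dvd_pow p (Nat.le_succ a))
    refine ⟨⟨S.map T.subtype, ?_, Subgroup.map_subtype_le S⟩⟩
    rw [Subgroup.card_map_of_injective T.subtype_injective, hS]

end Cfsg.Agent.Lib.Helper87.Kul
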