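import Mathlib

set_option autoImplicit false

namespace Cfsg.Agent.Lib.Helper87.Kul

/-- [F] the homomorphisms onto `Z/p` with a given kernel of index `p`. -/
theorem card_hom_ker_eq {P : Type*} [Group P] [Finite P] (p : ℕ) [Fact p.Prime] (S : Subgroup P)
    [S.Normal] (hS : S.index = p) :
    Nat.card {φ : P →* Multiplicative (ZMod p) // φ.ker = S} = p - 1 := by
  classical
  have hp : p.Prime := Fact.out
  have hZ : Nat.card (Multiplicative (ZMod p)) = p := by
    rw [Nat.card_eq_fintype_card, Fintype.card_multiplicative, ZMod.card]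
  have hQ : Nat.card (P ⧸ S) = p := hS
  let e0 : (P ⧸ S) ≃* Multiplicative (ZMod p) := mulEquivOfPrimeCardEq hQ hZ
  let φ0 : P →* Multiplicative (ZMod p) := e0.toMonoidHom.comp (QuotientGroup.mk' S)
  have hφ0s : Function.Surjective φ0 := e0.surjective.comp (QuotientGroup.mk'_surjective S)
  have hφ0k : φ0.ker = S := by
    ext x
    simp [φ0, MonoidHom.mem_ker]
  have hcyc : IsCyclic (Multiplicative (ZMod p)) := isCyclic_of_prime_card hZ
  have hA : Nat.card (MulAut (Multiplicative (ZMod p))) = p - 1 := by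
    rw [IsCyclic.card_mulAut, hZ, Nat.totient_prime hp]
  rw [← hA]
  symm
  apply Nat.card_congr
  refine Equiv.ofBijective (fun α => ⟨α.toMonoidHom.comp φ0, ?_⟩) ⟨?_, ?_⟩
  · ext x
    rw [← hφ0k]
    simp [MonoidHom.mem_ker]
  · intro α β h
    have h1 : α.toMonoidHom.comp φ0 = β.toMonoidHom.comp φ0 := congrArg Subtype.val h
    ext z
    obtain ⟨x, rfl⟩ := hφ0s z
    exact DFunLike.congr_fun h1 x
  · rintro ⟨φ, hφ⟩
    let α0 : Multiplicative (ZMod p) →* Multiplicative (ZMod p) :=
      φ0.liftOfSurjective hφ0s ⟨φ, by rw [hφ0k, hφ]⟩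
    have hα0 : ∀ x, α0 (φ0 x) = φ x := fun x =>
      MonoidHom.liftOfRightInverse_comp_apply _ _ _ _ x
    have hinj : Function.Injective α0 := by
      rw [injective_iff_map_eq_one]
      intro z hz
      obtain ⟨x, rfl⟩ := hφ0s z
      rw [hα0] at hz
      have : x ∈ φ.ker := hz
      rw [hφ, ← hφ0k] at this
      exact this
    have hbij : Function.Bijective α0 := ⟨hinj, Finite.surjective_of_injective hinj⟩
    refine ⟨MulEquiv.ofBijective α0 hbij, ?_⟩
    apply Subtype.ext
    ext x
    exact hα0 x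

end Cfsg.Agent.Lib.Helper87.Kul
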