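import Mathlib

set_option autoImplicit false

namespace Cfsg.Agent.Lib.Helper87.Kul

/-- [U] a group of order `p^(a+1)` with at most one subgroup of order `p^a` is cyclic. -/
theorem isCyclic_of_unique_max {P : Type*} [Group P] [Finite P] (p a : ℕ) [Fact p.Prime]
    (hP : Nat.card P = p ^ (a + 1))
    (hu : ∀ S S' : Subgroup P, Nat.card S = p ^ a → Nat.card S' = p ^ a → S = S') : IsCyclic P := by
  have hp : p.Prime := Fact.out
  obtain ⟨M, hM⟩ := Sylow.exists_subgroup_card_pow_prime (G := P) p (n := a)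
      (by rw [hP]; exact pow_dvd_pow p (Nat.le_succ a))
  obtain ⟨x, hx⟩ : ∃ x, x ∉ M := by
    by_contra hcon
    push Not at hcon
    have : M = ⊤ := eq_top_iff.mpr (fun z _ => hcon z)
    rw [this, Subgroup.card_top, hP] at hM
    exact absurd (Nat.pow_right_injective hp.two_le hM) (by omega)
  refine ⟨x, fun y => ?_⟩
  suffices h : Subgroup.zpowers x = ⊤ by
    have hy : y ∈ Subgroup.zpowers x := by rw [h]; trivial
    exact Subgroup.mem_zpowers_iff.mp hy
  by_contra hne
  have hd : Nat.card (Subgroup.zpowers x) ∣ p ^ (a + 1) := hP ▸ Subgroup.card_subgroup_dvd_card _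
  obtain ⟨k, hk, hck⟩ := (Nat.dvd_prime_pow hp).mp hd
  have hka : k ≤ a := by
    by_contra h
    have : k = a + 1 := by omega
    apply hne
    apply Subgroup.eq_top_of_card_eq
    rw [hck, this, hP]
  obtain ⟨K, hK, hxK⟩ := Sylow.exists_subgroup_card_pow_prime_le p
    (by rw [hP]; exact pow_dvd_pow p (Nat.le_succ a) : p ^ a ∣ Nat.card P) (Subgroup.zpowers x) hck hka
  have := hu K M hK hM
  exact hx (this ▸ hxK (Subgroup.mem_zpowers x))

end Cfsg.Agent.Lib.Helper87.Kul
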