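import Mathlib
import Cfsg.Agent.Lib.Helper87.Kul.Defs
import Cfsg.Agent.Lib.Helper87.Kul.E2F
import Cfsg.Agent.Lib.Helper87.Kul.E2U

set_option autoImplicit false

namespace Cfsg.Agent.Lib.Helper87.Kul

/-- [T0] arithmetic -/
theorem arith_max (p c d : ℕ) (hp : p.Prime) (hd : 2 ≤ d) (h : c * (p - 1) + 1 = p ^ d) :
    c ≡ 1 + p [MOD p ^ 2] := by
  obtain ⟨q, rfl⟩ : ∃ q, p = q + 1 := ⟨p - 1, by have := hp.pos; omega⟩
  obtain ⟨e, rfl⟩ : ∃ e, d = e + 2 := ⟨d - 2, by omega⟩
  simp only [Nat.add_sub_cancel] at h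
  have hcop : Nat.Coprime ((q + 1) ^ 2) q := by
    apply Nat.Coprime.pow_left
    simp
  have h1 : q * c + 1 ≡ q * (1 + (q + 1)) + 1 [MOD (q + 1) ^ 2] := by
    have e1 : q * c + 1 = (q + 1) ^ 2 * (q + 1) ^ e := by rw [mul_comm q c, h]; ring
    have e2 : q * (1 + (q + 1)) + 1 = (q + 1) ^ 2 * 1 := by ring
    rw [e1, e2]
    exact (Nat.modEq_zero_iff_dvd.mpr (Dvd.intro _ rfl)).trans
      (Nat.modEq_zero_iff_dvd.mpr (Dvd.intro _ rfl)).symm
  have h2 : q * c ≡ q * (1 + (q + 1)) [MOD (q + 1) ^ 2] := Nat.ModEq.add_right_cancel' 1 h1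
  exact Nat.ModEq.cancel_left_of_coprime hcop h2

/-- [T] number of maximal subgroups of a noncyclic `p`-group. -/
theorem card_max_modEq {P : Type*} [Group P] [Finite P] (p a : ℕ) [Fact p.Prime]
    (hP : Nat.card P = p ^ (a + 1)) (hnc : ¬ IsCyclic P) :
    Nat.card {S : Subgroup P // Nat.card S = p ^ a} ≡ 1 + p [MOD p ^ 2] := by
  classical
  have hp : p.Prime := Fact.out
  have hZ : Nat.card (Multiplicative (ZMod p)) = p := by
    rw [Nat.card_eq_fintype_card, Fintype.card_multiplicative, ZMod.card]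
  have hfinA : Finite (P →* Multiplicative (ZMod p)) :=
    Finite.of_injective (fun φ => (φ : P → Multiplicative (ZMod p))) DFunLike.coe_injective
  have hpg : IsPGroup p (P →* Multiplicative (ZMod p)) := by
    intro φ
    refine ⟨1, ?_⟩
    ext x
    rw [pow_one, MonoidHom.pow_apply, MonoidHom.one_apply]
    have := pow_card_eq_one' (G := Multiplicative (ZMod p)) (x := φ x)
    rwa [hZ] at this
  obtain ⟨d, hd⟩ := IsPGroup.iff_card.mp hpg
  have hidx : ∀ S : Subgroup P, Nat.card S = p ^ a → S.index = p := by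
    intro S hS
    have h1 := S.card_mul_index
    rw [hS, hP, pow_succ] at h1
    exact Nat.eq_of_mul_eq_mul_left (pow_pos hp.pos a) h1
  have hker : ∀ φ : P →* Multiplicative (ZMod p), φ ≠ 1 → Nat.card φ.ker = p ^ a := by
    intro φ hφ
    have h1 : φ.ker.index = Nat.card φ.range := Subgroup.index_ker φ
    have h2 : φ.range = ⊤ := by
      haveI : Fact (Nat.card (Multiplicative (ZMod p))).Prime := ⟨by rw [hZ]; exact hp⟩
      rcases Subgroup.eq_bot_or_eq_top_of_prime_card φ.range with h | h
      · exfalso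
        apply hφ
        ext x
        have : φ x ∈ φ.range := ⟨x, rfl⟩
        rw [h, Subgroup.mem_bot] at this
        rw [this]; rfl
      · exact h
    rw [h2, Subgroup.card_top, hZ] at h1
    have h3 := φ.ker.card_mul_index
    rw [h1, hP, pow_succ] at h3
    exact Nat.eq_of_mul_eq_mul_right hp.pos h3
  let f : {φ : P →* Multiplicative (ZMod p) // φ ≠ 1} → {S : Subgroup P // Nat.card S = p ^ a} :=
    fun φ => ⟨φ.1.ker, hker φ.1 φ.2⟩
  have hfib : ∀ S : {S : Subgroup P // Nat.card S = p ^ a},
      Nat.card {x : {φ : P →* Multiplicative (ZMod p) // φ ≠ 1} // f x = S} = p - 1 := by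
    rintro ⟨S, hS⟩
    have hSi := hidx S hS
    have hSn : S.Normal := by
      apply Subgroup.normal_of_index_eq_minFac_card
      rw [hSi, hP, Nat.Prime.pow_minFac hp (Nat.succ_ne_zero a)]
    rw [← card_hom_ker_eq p S hSi]
    apply Nat.card_congr
    exact
      { toFun := fun x => ⟨x.1.1, congrArg Subtype.val x.2⟩
        invFun := fun φ => ⟨⟨φ.1, by
            intro h1
            have h2 := φ.2
            rw [h1, MonoidHom.ker_one] at h2
            rw [← h2, Subgroup.index_top] at hSi
            exact hp.one_lt.ne hSi⟩, Subtype.ext φ.2⟩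
        left_inv := fun x => rfl
        right_inv := fun φ => rfl }
  have := Fintype.ofFinite (P →* Multiplicative (ZMod p))
  have := Fintype.ofFinite {S : Subgroup P // Nat.card S = p ^ a}
  have hcount : Nat.card {φ : P →* Multiplicative (ZMod p) // φ ≠ 1} =
      Nat.card {S : Subgroup P // Nat.card S = p ^ a} * (p - 1) := by
    rw [← Nat.card_congr (Equiv.sigmaFiberEquiv f), Nat.card_sigma]
    simp only [hfib]
    rw [Finset.sum_const, Finset.card_univ, smul_eq_mul, Nat.card_eq_fintype_card]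
  have hne : Nat.card {φ : P →* Multiplicative (ZMod p) // φ ≠ 1} + 1 = p ^ d := by
    rw [← hd, Nat.card_eq_fintype_card, Nat.card_eq_fintype_card]
    have := Set.card_ne_eq (1 : P →* Multiplicative (ZMod p))
    have h2 : 0 < Fintype.card (P →* Multiplicative (ZMod p)) := Fintype.card_pos
    have h3 : Fintype.card {φ : P →* Multiplicative (ZMod p) // φ ≠ 1} =
        Fintype.card (P →* Multiplicative (ZMod p)) - 1 := by
      rw [← this]
      apply Fintype.card_congr
      exact Equiv.refl _
    omega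
  rw [hcount] at hne
  apply arith_max p _ d hp _ hne
  by_contra hd2
  obtain ⟨M, hM⟩ := Sylow.exists_subgroup_card_pow_prime (G := P) p (n := a)
      (by rw [hP]; exact pow_dvd_pow p (Nat.le_succ a))
  have hpos : 0 < Nat.card {S : Subgroup P // Nat.card S = p ^ a} := by
    rw [Nat.card_eq_fintype_card]
    exact Fintype.card_pos_iff.mpr ⟨⟨M, hM⟩⟩
  have hp1 : 0 < p - 1 := by have := hp.two_le; omega
  have hle : p ^ d ≤ p := by
    calc p ^ d ≤ p ^ 1 := Nat.pow_le_pow_right hp.pos (by omega)
      _ = p := pow_one p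
  have hc1 : Nat.card {S : Subgroup P // Nat.card S = p ^ a} ≤ 1 := by
    by_contra hc
    have : 2 * (p - 1) ≤ Nat.card {S : Subgroup P // Nat.card S = p ^ a} * (p - 1) :=
      Nat.mul_le_mul_right _ (by omega)
    omega
  apply hnc
  apply isCyclic_of_unique_max p a hP
  intro S S' hS hS'
  have hsub : Subsingleton {S : Subgroup P // Nat.card S = p ^ a} := by
    rw [← Finite.card_le_one_iff_subsingleton]
    exact hc1
  exact congrArg Subtype.val (Subsingleton.elim (⟨S, hS⟩ : {S : Subgroup P // Nat.card S = p ^ a}) ⟨S', hS'⟩)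

/-- [E2] -/
theorem mu_noncyclic {G : Type*} [Group G] [Finite G] (p a : ℕ) (hp : p.Prime) (T : Subgroup G)
    (hT : Nat.card T = p ^ (a + 1)) (hc : ¬ IsCyclic T) : mu (p ^ a) T ≡ 1 + p [MOD p ^ 2] := by
  have : Fact p.Prime := ⟨hp⟩
  have h := card_max_modEq (P := ↥T) p a hT hc
  have e : {S : Subgroup G // Nat.card S = p ^ a ∧ S ≤ T} ≃ {S : Subgroup ↥T // Nat.card S = p ^ a} :=
    { toFun := fun S => ⟨S.1.subgroupOf T, by
          rw [Nat.card_congr (Subgroup.subgroupOfEquivOfLe S.2.2).toEquiv, S.2.1]⟩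
      invFun := fun S => ⟨S.1.map T.subtype, by
          rw [Subgroup.card_map_of_injective T.subtype_injective, S.2], Subgroup.map_subtype_le S.1⟩
      left_inv := fun S => by
        apply Subtype.ext
        simp only [Subgroup.subgroupOf_map_subtype]
        exact inf_eq_left.mpr S.2.2
      right_inv := fun S => by
        apply Subtype.ext
        simp only [Subgroup.subgroupOf, Subgroup.comap_map_eq_self_of_injective T.subtype_injective] }
  unfold mu
  rw [Nat.card_congr e]
  exact h

end Cfsg.Agent.Lib.Helper87.Kul
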