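import Mathlib
import Cfsg.Agent.S3975
import Cfsg.Agent.Lib.Helper87.Kul.Defs

set_option autoImplicit false

namespace Cfsg.Agent.Lib.Helper87.Kul

open MulAction
open scoped Pointwise

/-- [SP] -/
theorem sN_eq_add {G : Type*} [Group G] [Finite G] (n : ℕ) : sN G n = cN G n + ncN G n := by
  classical
  unfold sN cN ncN
  have e : {H : Subgroup G // Nat.card H = n} ≃
      {H : Subgroup G // Nat.card H = n ∧ IsCyclic H} ⊕ {H : Subgroup G // Nat.card H = n ∧ ¬ IsCyclic H} :=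
    { toFun := fun H => if h : IsCyclic H.1 then Sum.inl ⟨H.1, H.2, h⟩ else Sum.inr ⟨H.1, H.2, h⟩
      invFun := fun x => Sum.elim (fun H => ⟨H.1, H.2.1⟩) (fun H => ⟨H.1, H.2.1⟩) x
      left_inv := by
        intro H
        by_cases h : IsCyclic H.1 <;> simp [h]
      right_inv := by
        rintro (⟨H, h1, h2⟩ | ⟨H, h1, h2⟩)
        · exact dif_pos h2
        · exact dif_neg h2 }
  rw [Nat.card_congr e, Nat.card_sum]

/-- in the cyclic group there is exactly one subgroup of order `p^b` when it divides the order -/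
theorem sN_cyclic (N k : ℕ) (hN : 0 < N) (hk : 0 < k) (hkN : k ∣ N) :
    sN (Multiplicative (ZMod N)) k = 1 := by
  have : NeZero N := ⟨hN.ne'⟩
  unfold sN
  rw [Nat.card_eq_one_iff_unique]
  constructor
  · constructor
    rintro ⟨H, hH⟩ ⟨H', hH'⟩
    exact Subtype.ext (Cfsg.Agent.S3975.eq_of_card_eq_of_isCyclic hk hH hH')
  · have hc : Nat.card (Multiplicative (ZMod N)) = N := by
      rw [Nat.card_eq_fintype_card, Fintype.card_multiplicative, ZMod.card]
    obtain ⟨g, hg⟩ := IsCyclic.exists_ofOrder_eq_natCard (α := Multiplicative (ZMod N))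
    obtain ⟨d, hd⟩ := hkN
    refine ⟨⟨Subgroup.zpowers (g ^ d), ?_⟩⟩
    rw [Nat.card_zpowers, orderOf_pow, hg, hc, hd]
    have hdpos : 0 < d := by
      rcases Nat.eq_zero_or_pos d with h | h
      · subst h; omega
      · exact h
    rw [Nat.gcd_eq_right (Dvd.intro_left k rfl)]
    exact Nat.mul_div_cancel k hdpos

/-- [Z] the cyclic group. -/
theorem cyclic_data (p a r : ℕ) (hp : p.Prime) (hr : 0 < r) :
    sN (Multiplicative (ZMod (p ^ (a + 1) * r))) (p ^ a) = 1 ∧
    sN (Multiplicative (ZMod (p ^ (a + 1) * r))) (p ^ (a + 1)) = 1 ∧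
    pairsN (Multiplicative (ZMod (p ^ (a + 1) * r))) (p ^ a) (p ^ (a + 1)) = 1 := by
  have hN : 0 < p ^ (a + 1) * r := Nat.mul_pos (pow_pos hp.pos _) hr
  have : NeZero (p ^ (a + 1) * r) := ⟨hN.ne'⟩
  have h1 := sN_cyclic (p ^ (a + 1) * r) (p ^ a) hN (pow_pos hp.pos _)
    (Dvd.dvd.mul_right (pow_dvd_pow p (Nat.le_succ a)) r)
  have h2 := sN_cyclic (p ^ (a + 1) * r) (p ^ (a + 1)) hN (pow_pos hp.pos _) (Dvd.intro _ rfl)
  refine ⟨h1, h2, ?_⟩
  unfold pairsN
  rw [Nat.card_eq_one_iff_unique]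
  constructor
  · constructor
    rintro ⟨⟨S, T⟩, hS, hT, _⟩ ⟨⟨S', T'⟩, hS', hT', _⟩
    have e1 : S = S' := Cfsg.Agent.S3975.eq_of_card_eq_of_isCyclic (pow_pos hp.pos _) hS hS'
    have e2 : T = T' := Cfsg.Agent.S3975.eq_of_card_eq_of_isCyclic (pow_pos hp.pos _) hT hT'
    subst e1 e2
    rfl
  · unfold sN at h2
    obtain ⟨⟨T, hT⟩⟩ := (Nat.card_eq_one_iff_unique.mp h2).2
    have : Fact p.Prime := ⟨hp⟩
    obtain ⟨S, hS⟩ := Sylow.exists_subgroup_card_pow_prime (G := ↥T) p (n := a)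
      (by rw [hT]; exact pow_dvd_pow p (Nat.le_succ a))
    refine ⟨⟨(S.map T.subtype, T), ?_, hT, ?_⟩⟩
    · show Nat.card (S.map T.subtype) = p ^ a
      rw [Subgroup.card_map_of_injective T.subtype_injective, hS]
    · exact Subgroup.map_subtype_le S

/-- [Z'] -/
theorem choose_p (p r : ℕ) (hp : p.Prime) (hr : 0 < r) : ∃ t, (p * r).choose p = r * (1 + p * t) := by
  classical
  have hN : 0 < p * r := Nat.mul_pos hp.pos hr
  have : NeZero (p * r) := ⟨hN.ne'⟩
  have hnC : Fintype.card (Multiplicative (ZMod (p * r))) = p ^ 1 * r := by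
    rw [Fintype.card_multiplicative, ZMod.card, pow_one]
  obtain ⟨t, ht⟩ := Cfsg.Agent.S3975.wielandt (G := Multiplicative (ZMod (p * r))) p 1 r hp hnC
  have h1 := sN_cyclic (p * r) (p ^ 1) hN (pow_pos hp.pos _) (by rw [pow_one]; exact Dvd.intro _ rfl)
  unfold sN at h1
  rw [h1, hnC, pow_one] at ht
  exact ⟨t, by rw [ht]; ring⟩

section D
variable {G : Type*} [Group G] [Fintype G] [DecidableEq G]

/-- [D] the subsets of size `p^(a+1)` whose stabilizer has order neither `p^(a+1)` nor `p^a`. -/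
theorem dvd_card_small (p a r : ℕ) (hp : p.Prime) (hn : Fintype.card G = p ^ (a + 1) * r) :
    p ^ 2 * r ∣ (((Finset.univ : Finset G).powersetCard (p ^ (a + 1))).filter
      (fun M => Nat.card (stabilizer G M) ≠ p ^ (a + 1) ∧ Nat.card (stabilizer G M) ≠ p ^ a)).card := by
  apply Cfsg.Agent.S3975.dvd_card_of_dvd_index_stabilizer (K := G) (X := Finset G)
  · intro g M hM
    rw [Finset.mem_filter, Finset.mem_powersetCard] at hM ⊢
    refine ⟨⟨Finset.subset_univ _, ?_⟩, ?_⟩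
    · rw [Finset.card_smul_finset]; exact hM.1.2
    · rw [Cfsg.Agent.S3975.card_stabilizer_smul]; exact hM.2
  · intro M hM
    rw [Finset.mem_filter, Finset.mem_powersetCard] at hM
    obtain ⟨⟨_, hc⟩, h1, h2⟩ := hM
    have hd := Cfsg.Agent.S3975.card_stabilizer_dvd M
    rw [hc] at hd
    obtain ⟨j, hj, hjc⟩ := (Nat.dvd_prime_pow hp).mp hd
    have hj2 : j + 2 ≤ a + 1 := by
      have n1 : j ≠ a + 1 := fun h => h1 (by rw [hjc, h])
      have n2 : j ≠ a := fun h => h2 (by rw [hjc, h])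
      omega
    have hmul := Subgroup.card_mul_index (stabilizer G M)
    rw [hjc, Nat.card_eq_fintype_card, hn] at hmul
    obtain ⟨c, hcc⟩ := Nat.exists_eq_add_of_le hj2
    have hpow : p ^ (a + 1) = p ^ j * (p ^ 2 * p ^ c) := by
      rw [hcc]; ring
    rw [hpow] at hmul
    have : (stabilizer G M).index = p ^ 2 * p ^ c * r := by
      apply Nat.eq_of_mul_eq_mul_left (pow_pos hp.pos j)
      rw [hmul]; ring
    rw [this]
    exact ⟨p ^ c, by ring⟩

end D

end Cfsg.Agent.Lib.Helper87.Kul
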