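import Mathlib
import Cfsg.Agent.S3975
import Cfsg.Agent.S4003
import Cfsg.Agent.Lib.Helper87.Kul.Defs
import Cfsg.Agent.Lib.Helper87.Kul.Small
import Cfsg.Agent.Lib.Helper87.Kul.E1
import Cfsg.Agent.Lib.Helper87.Kul.E2
import Cfsg.Agent.Lib.Helper91.Kul.B0
import Cfsg.Agent.Lib.Helper91.Kul.E

set_option autoImplicit false

namespace Cfsg.Agent.Lib.Helper87.Kul

/-- arithmetic core of (W) -/
theorem arith (p s s' pr nc t0 t1 t : ℕ) (hs : s ≡ 1 [MOD p]) (hs1 : 1 ≤ s)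
    (h1 : (1 + p * t1) + p ^ 2 * t0 + pr = s' + s * (1 + p * t1) + p ^ 2 * t)
    (h2 : pr ≡ s' + p * nc [MOD p ^ 2]) : s ≡ 1 + p * nc [MOD p ^ 2] := by
  obtain ⟨u, hu⟩ : ∃ u, s = 1 + p * u := by
    have := (Nat.modEq_iff_dvd' hs1).mp hs.symm
    obtain ⟨u, hu⟩ := this
    exact ⟨u, by omega⟩
  subst hu
  have h3 : p ^ 2 * t0 + pr = s' + p * u + p ^ 2 * (u * t1 + t) := by nlinarith
  have h4 : pr ≡ s' + p * u [MOD p ^ 2] := by
    have a1 : p ^ 2 * t0 + pr ≡ pr [MOD p ^ 2] := by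
      simpa using (Nat.modEq_zero_iff_dvd.mpr (Dvd.intro t0 rfl) : p ^ 2 * t0 ≡ 0 [MOD p ^ 2]).add_right pr
    have a2 : s' + p * u + p ^ 2 * (u * t1 + t) ≡ s' + p * u [MOD p ^ 2] := by
      simpa using (Nat.modEq_zero_iff_dvd.mpr (Dvd.intro (u * t1 + t) rfl) :
        p ^ 2 * (u * t1 + t) ≡ 0 [MOD p ^ 2]).add_left (s' + p * u)
    exact a1.symm.trans (h3 ▸ a2)
  have h5 : s' + p * u ≡ s' + p * nc [MOD p ^ 2] := h4.symm.trans h2
  exact (Nat.ModEq.add_left_cancel' s' h5).add_left 1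

/-- (W) -/
theorem W {G : Type*} [Group G] [Finite G] (p a : ℕ) (hp : p.Prime) (hdvd : p ^ (a + 1) ∣ Nat.card G) :
    Nat.card {H : Subgroup G // Nat.card H = p ^ a} ≡
      1 + p * Nat.card {H : Subgroup G // Nat.card H = p ^ (a + 1) ∧ ¬ IsCyclic H} [MOD p ^ 2] := by
  classical
  obtain ⟨r, hr⟩ := hdvd
  have := Fintype.ofFinite G
  have hn : Fintype.card G = p ^ (a + 1) * r := by rw [← Nat.card_eq_fintype_card, hr]
  have hrpos : 0 < r := by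
    rcases Nat.eq_zero_or_pos r with h | h
    · rw [h, mul_zero] at hn
      exact absurd hn Fintype.card_ne_zero
    · exact h
  haveI : NeZero (p ^ (a + 1) * r) := ⟨(Nat.mul_pos (pow_pos hp.pos _) hrpos).ne'⟩
  obtain ⟨t, ht⟩ := Cfsg.Agent.Lib.Helper91.Kul.star (G := G) p a r hp hn
  have hnC : Fintype.card (Multiplicative (ZMod (p ^ (a + 1) * r))) = p ^ (a + 1) * r := by
    rw [Fintype.card_multiplicative, ZMod.card]
  obtain ⟨t0, ht0⟩ := Cfsg.Agent.Lib.Helper91.Kul.star (G := Multiplicative (ZMod (p ^ (a + 1) * r))) p a r hp hnC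
  obtain ⟨c1, c2, c3⟩ := cyclic_data p a r hp hrpos
  rw [c1, c2, c3] at ht0
  obtain ⟨t1, ht1⟩ := choose_p p r hp hrpos
  have hs : sN G (p ^ a) ≡ 1 [MOD p] :=
    Cfsg.Agent.S3975.result p a hp (by rw [hr]; exact Dvd.dvd.mul_right (pow_dvd_pow p (Nat.le_succ a)) r)
  have hs1 : 1 ≤ sN G (p ^ a) := by
    by_contra h
    have h0 : sN G (p ^ a) = 0 := by omega
    rw [h0] at hs
    have := (Nat.modEq_zero_iff_dvd.mp hs.symm)
    exact hp.one_lt.ne' (Nat.dvd_one.mp this)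
  have key : (1 + p * t1) + p ^ 2 * t0 + pairsN G (p ^ a) (p ^ (a + 1)) =
      sN G (p ^ (a + 1)) + sN G (p ^ a) * (1 + p * t1) + p ^ 2 * t := by
    apply Nat.eq_of_mul_eq_mul_left hrpos
    rw [ht1] at ht ht0
    nlinarith
  exact arith p _ _ _ _ t0 t1 t hs hs1 key (Cfsg.Agent.Lib.Helper91.Kul.pairs_modEq_of p a
    (fun T h c => mu_cyclic p a hp T h c) (fun T h c => mu_noncyclic p a hp T h c))

end Cfsg.Agent.Lib.Helper87.Kul
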