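import Mathlib
import Cfsg.Agent.S3975
import Cfsg.Agent.S4003
import Cfsg.Agent.Lib.Helper87.Kul.Defs
import Cfsg.Agent.Lib.Helper87.Kul.Small
import Cfsg.Agent.Lib.Helper87.Kul.CY
import Cfsg.Agent.Lib.Helper87.Kul.Main

set_option autoImplicit false

namespace Cfsg.Agent.Lib.Helper87.Kul

/-- if `p ∣ c_b` then `s_a ≡ 1 + p`. -/
theorem modEq_of_dvd_cN {G : Type*} [Group G] [Finite G] (p a : ℕ) (hp : p.Prime)
    (hdvd : p ^ (a + 1) ∣ Nat.card G) (hc : p ∣ cN G (p ^ (a + 1))) :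
    Nat.card {H : Subgroup G // Nat.card H = p ^ a} ≡ 1 + p [MOD p ^ 2] := by
  have hW := W (G := G) p a hp hdvd
  have hs : sN G (p ^ (a + 1)) ≡ 1 [MOD p] := Cfsg.Agent.S3975.result p (a + 1) hp hdvd
  have hnc : ncN G (p ^ (a + 1)) ≡ 1 [MOD p] := by
    rw [sN_eq_add] at hs
    have h0 : cN G (p ^ (a + 1)) + ncN G (p ^ (a + 1)) ≡ 0 + ncN G (p ^ (a + 1)) [MOD p] :=
      (Nat.modEq_zero_iff_dvd.mpr hc).add_right _
    rw [zero_add] at h0
    exact h0.symm.trans hs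
  have h2 : p * ncN G (p ^ (a + 1)) ≡ p * 1 [MOD p * p] := Nat.ModEq.mul_left' p hnc
  rw [mul_one, ← pow_two] at h2
  exact hW.trans (h2.add_left 1)

/-- odd `p`, noncyclic Sylow: Miller via S4003. -/
theorem dvd_cN_of_odd {G : Type*} [Group G] [Finite G] (p : ℕ) [Fact p.Prime] (hodd : p ≠ 2)
    (hpG : p ∣ Nat.card G) (P : Sylow p G) (hP : ¬ IsCyclic ↥(P : Subgroup G)) (a : ℕ) (ha : 1 ≤ a) :
    p ∣ cN G (p ^ (a + 1)) := by
  have hp : p.Prime := Fact.out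
  have h := Cfsg.Agent.S4003.result p hodd hpG P hP (a + 1) 1 (by omega) (Nat.coprime_one_right p)
  rw [mul_one, card_orderOf_eq (p ^ (a + 1)) (pow_pos hp.pos _), Nat.totient_prime_pow_succ hp] at h
  have h1 : p ^ a * p ∣ p ^ a * (cN G (p ^ (a + 1)) * (p - 1)) := by
    have : cN G (p ^ (a + 1)) * (p ^ a * (p - 1)) = p ^ a * (cN G (p ^ (a + 1)) * (p - 1)) := by ring
    rw [← this, ← pow_succ]; exact h
  have h2 : p ∣ cN G (p ^ (a + 1)) * (p - 1) := Nat.dvd_of_mul_dvd_mul_left (pow_pos hp.pos a) h1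
  rcases (Nat.Prime.dvd_mul hp).mp h2 with h3 | h3
  · exact h3
  · exfalso
    have := Nat.le_of_dvd (by have := hp.two_le; omega) h3
    have := hp.two_le
    omega

/-- cyclic Sylow: no noncyclic `p`-subgroups. -/
theorem ncN_eq_zero_of_cyclic {G : Type*} [Group G] [Finite G] (p : ℕ) [Fact p.Prime]
    (P : Sylow p G) (hP : IsCyclic ↥(P : Subgroup G)) (b : ℕ) : ncN G (p ^ b) = 0 := by
  unfold ncN
  rw [Nat.card_eq_zero]
  left
  constructor
  rintro ⟨H, hH, hnc⟩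
  apply hnc
  have hpg : IsPGroup p H := IsPGroup.of_card hH
  obtain ⟨Q, hQ⟩ := hpg.exists_le_sylow
  have e : ↥(P : Subgroup G) ≃* ↥(Q : Subgroup G) := Sylow.equiv P Q
  have hQc : IsCyclic ↥(Q : Subgroup G) := isCyclic_of_surjective e e.surjective
  have : IsCyclic ↥(H.subgroupOf (Q : Subgroup G)) := inferInstance
  exact isCyclic_of_surjective (Subgroup.subgroupOfEquivOfLe hQ) (Subgroup.subgroupOfEquivOfLe hQ).surjective

end Cfsg.Agent.Lib.Helper87.Kul
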